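import Cfsg.Agent.Spor.ThD.Z.D0

set_option autoImplicit false
set_option maxRecDepth 100000000
set_option Elab.async false

namespace Cfsg.Agent.Spor.ThD.Z

theorem gr3 : sub M2 (U.growI W1 [0, 1] (Nat.shiftLeft 1 0)) = true := by decide +kernel

theorem gr6 : sub M5 (U.growI W1 [0, 1, 1, 0, 0, 1, 1, 0, 0, 1, 1, 0, 0, 1, 1, 0, 0, 1, 1, 0, 0, 1, 1] (Nat.shiftLeft 1 1)) = true := by decide +kernel

theorem gr9 : sub M8 (U.growI W1 [0, 1, 1, 0, 0, 1, 1, 0, 0, 1, 1, 0, 0, 1] (Nat.shiftLeft 1 10)) = true := by decide +kernel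

theorem cl11 : U.closedW W1 M2 = true := by decide +kernel

theorem sd12 : U.sends [] 0 0 = true := by decide +kernel

theorem sd13 : U.sends [3] 0 1 = true := by decide +kernel

theorem sd14 : U.sends [4, 1, 3] 0 2 = true := by decide +kernel

theorem sd15 : U.sends [3, 1, 5, 3, 7] 0 10 = true := by decide +kernel

theorem gr18 : sub M17 (U.growI W16 [0, 1, 1, 0, 0, 1, 1, 0] (Nat.shiftLeft 1 0)) = true := by decide +kernel

theorem gr21 : sub M20 (U.growI W16 [0, 1, 1, 0, 0, 1, 1, 0, 0, 1, 1, 0, 0, 1, 1, 0, 0] (Nat.shiftLeft 1 1)) = true := by decide +kernel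

theorem gr24 : sub M23 (U.growI W16 [0, 1, 1, 0, 0, 1, 1, 0, 0, 1, 1, 0, 0, 1, 1, 0, 0, 1] (Nat.shiftLeft 1 5)) = true := by decide +kernel

theorem cl27 : U.closedW W16 (Nat.shiftLeft 1 6) = true := by decide +kernel

theorem sd28 : U.sends [] 0 0 = true := by decide +kernel

theorem sd29 : U.sends [3] 0 1 = true := by decide +kernel

theorem sd30 : U.sends [4, 1, 3] 6 3 = true := by decide +kernel

theorem sd31 : U.sends [3, 5, 7] 0 5 = true := by decide +kernel

theorem sd32 : U.sends [8, 6, 4, 1, 3, 5, 7] 6 23 = true := by decide +kernel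

theorem sd33 : U.sends [3, 1, 5, 3] 0 6 = true := by decide +kernel

end Cfsg.Agent.Spor.ThD.Z
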