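import Cfsg.Agent.Spor.Prim
import Cfsg.Agent.Spor.ThD.Main
import Cfsg.Agent.Spor.ThD.Z.C0
import Cfsg.Agent.Spor.PX14
import Cfsg.Agent.Spor.ThD.Grp

set_option autoImplicit false
set_option maxRecDepth 100000000
set_option Elab.async false

namespace Cfsg.Agent.Spor.ThD.Z

theorem hU : U.Ok 10 := U.ok_of 10 (show AllP (fun n => Net.okb 10 n = true) [n0, n1, n2, n3, n4, n5, n6] from AllP.cons ok0 (AllP.cons ok1 (AllP.cons ok2 (AllP.cons ok3 (AllP.cons ok4 (AllP.cons ok5 (AllP.cons ok6 (AllP.nil))))))))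

theorem link : U.Link P.subtype (atm 7 p) (2 * 7) :=
  Tab.Link.of (fun j hj => (lift_gsub fP j hj).trans (by interval_cases j <;> rfl)) (by decide +kernel)
theorem reach4 : Reach (U.lsub W1) 0 M2 := (Reach.grow hU (Reach.base _ 0) gr3)
theorem reach7 : Reach (U.lsub W1) 1 M5 := (Reach.grow hU (Reach.base _ 1) gr6)
theorem reach10 : Reach (U.lsub W1) 10 M8 := (Reach.grow hU (Reach.base _ 10) gr9)
theorem cls1 (hH : ∀ x ∈ wsub 7 p BW, x * ev (atm 7 p) [0] = ev (atm 7 p) [0] * x) {Q : P → Prop} (h0 : Q (ev (atm 7 p) [])) (h2 : Q (ev (atm 7 p) [6, 2, 4, 0, 2])) :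
    ∀ y ∈ wsub 7 p [[11, 8, 11, 6, 4, 6, 8, 10, 2, 4, 6, 0, 2, 4, 6, 1, 9, 10], [13, 11, 8, 2, 4, 6, 0, 2, 4, 6, 8, 10, 8, 4, 6, 5, 7, 9]], IsConj (ev (atm 7 p) [0]) y → ∃ s ∈ wsub 7 p [[11, 8, 11, 6, 4, 6, 8, 10, 2, 4, 6, 0, 2, 4, 6, 1, 9, 10], [13, 11, 8, 2, 4, 6, 0, 2, 4, 6, 8, 10, 8, 4, 6, 5, 7, 9]], ∃ h, Q h ∧
      y = s * h * ev (atm 7 p) [0] * (s * h)⁻¹ :=
  link.classes cert.self (W := W1) (by decide +kernel) hH (X := [([], 0, M2), ([2], 1, M5), ([6, 2, 4, 0, 2], 10, M8)])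
    (AllP.cons ⟨by decide, (hU.sends sd12), reach4, Or.inl h0⟩ (AllP.cons ⟨by decide, (hU.sends sd13), reach7, Or.inr (link.not_mem hU (by decide +kernel) cl11 (by decide +kernel) sd14)⟩ (AllP.cons ⟨by decide, (hU.sends sd15), reach10, Or.inl h2⟩ (AllP.nil)))) (by decide +kernel)
theorem reach19 : Reach (U.lsub W16) 0 M17 := (Reach.grow hU (Reach.base _ 0) gr18)
theorem reach22 : Reach (U.lsub W16) 1 M20 := (Reach.grow hU (Reach.base _ 1) gr21)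
theorem reach25 : Reach (U.lsub W16) 5 M23 := (Reach.grow hU (Reach.base _ 5) gr24)
theorem reach26 : Reach (U.lsub W16) 6 (Nat.shiftLeft 1 6) := (Reach.base _ 6)
theorem cls15 (hH : ∀ x ∈ wsub 7 p BW, x * ev (atm 7 p) [0] = ev (atm 7 p) [0] * x) {Q : P → Prop} (h0 : Q (ev (atm 7 p) [])) (h3 : Q (ev (atm 7 p) [2, 4, 0, 2])) :
    ∀ y ∈ wsub 7 p [[11, 8, 11, 2, 4, 6, 8, 10, 4, 6, 2, 4, 6, 8, 6, 5, 7, 10, 10], [11, 13, 8, 10, 0, 2, 4, 6, 8, 0, 2, 4, 6, 4, 2, 0, 3, 10, 9, 7, 5, 3, 1, 10, 9]], IsConj (ev (atm 7 p) [0]) y → ∃ s ∈ wsub 7 p [[11, 8, 11, 2, 4, 6, 8, 10, 4, 6, 2, 4, 6, 8, 6, 5, 7, 10, 10], [11, 13, 8, 10, 0, 2, 4, 6, 8, 0, 2, 4, 6, 4, 2, 0, 3, 10, 9, 7, 5, 3, 1, 10, 9]], ∃ h, Q h ∧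
      y = s * h * ev (atm 7 p) [0] * (s * h)⁻¹ :=
  link.classes cert.self (W := W16) (by decide +kernel) hH (X := [([], 0, M17), ([2], 1, M20), ([6, 4, 2], 5, M23), ([2, 4, 0, 2], 6, (Nat.shiftLeft 1 6))])
    (AllP.cons ⟨by decide, (hU.sends sd28), reach19, Or.inl h0⟩ (AllP.cons ⟨by decide, (hU.sends sd29), reach22, Or.inr (link.not_mem hU (by decide +kernel) cl27 (by decide +kernel) sd30)⟩ (AllP.cons ⟨by decide, (hU.sends sd31), reach25, Or.inr (link.not_mem hU (by decide +kernel) cl27 (by decide +kernel) sd32)⟩ (AllP.cons ⟨by decide, (hU.sends sd33), reach26, Or.inl h3⟩ (AllP.nil))))) (by decide +kernel)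

end Cfsg.Agent.Spor.ThD.Z
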