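import Cfsg.Agent.Spor.Chk2
import Cfsg.Agent.Spor.ThD.D0

set_option autoImplicit false
set_option maxRecDepth 100000000
set_option Elab.async false
noncomputable section

namespace Cfsg.Agent.Spor.ThD.Z

def W1 : List (List Nat) := [[11, 10, 2, 7, 5, 3, 1, 7, 5, 3, 11, 9, 7, 5, 7, 12, 9, 12], [10, 8, 6, 7, 5, 9, 11, 9, 7, 5, 3, 1, 7, 5, 3, 9, 12, 14]]

def M2 : Nat := nat_lit 0x200000041

def M5 : Nat := nat_lit 0x7fffffffffffffffffffffffffffffffffffffffffffffffffffffffffffffffffffffffffffffffc3fffffffffffffffffffffffffffffffffffc3ffffff3ffffffffffffffffffffffffff3ffdffffffffffffffff43fffff0eff873ffc0bfcbfe1fe79dbbe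

def M8 : Nat := nat_lit 0x3c000000000000000000000000000000000003c000000c00000000000000000000000000c0020000000000000000bc00000f10078c003f403401c01862400

def W16 : List (List Nat) := [[11, 11, 8, 6, 7, 9, 7, 5, 3, 7, 5, 11, 9, 7, 5, 3, 12, 9, 12], [10, 11, 2, 4, 6, 8, 10, 11, 4, 1, 3, 5, 7, 5, 3, 1, 9, 7, 5, 3, 1, 11, 9, 14, 12]]

def M17 : Nat := nat_lit 0x3c00000000078c0000003400201802001

def M20 : Nat := nat_lit 0x7ffeff3fffe79b9ffff80fc18c001e07ffffffff0407f8400fffffc0002000000ffff00fc0ffffffc3ffe0e00007fff807fffff87f802003fffffc00e7fff3fff7803fff1ffffffff7803fff0bfdfffc7fbffffff8ff03ffbff0eff0721fc0a1c80e10208001e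

def M23 : Nat := nat_lit 0x100c0001864600007f03e73ffe1f800000000fbf807bff000003fffdffffff0000ff03f0000003c001f1ffff80007f8000007807fdffc000003ff18000c00087fc000e0000000087fc000f4020003804000000700c000400f100801e03f5e03f1cfc77dfa0

def U : Tab := ⟨[n0, n1, n2, n3, n4, n5, n6], [⟨0, false, 0, 0, []⟩, ⟨0, false, 0, 0, []⟩, ⟨0, true, 0, 0, []⟩, ⟨1, false, 0, 0, []⟩, ⟨1, true, 0, 0, []⟩, ⟨2, false, 0, 0, []⟩, ⟨2, true, 0, 0, []⟩, ⟨3, false, 0, 0, []⟩, ⟨3, true, 0, 0, []⟩, ⟨4, false, 0, 0, []⟩, ⟨4, true, 0, 0, []⟩, ⟨5, false, 0, 0, []⟩, ⟨5, true, 0, 0, []⟩, ⟨6, false, 0, 0, []⟩, ⟨6, true, 0, 0, []⟩]⟩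

end Cfsg.Agent.Spor.ThD.Z
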